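import Groth.Agent.VBCurve.K704.MukGeo
import Groth.Agent.Picfga.PicGood
import Groth.Agent.Picfga.HilbPull
import Groth.Agent.Books.AntiAffine
import Groth.Agent.AbVar.K528.RedClosed

/-!
# Coordinates of points; base change of the sections `B.sec`; functions on `X_T`; geometric points of `X_T`

Nodes H1 and H2 of the plan for S13246/S13247.
-/

set_option autoImplicit false
set_option backward.isDefEq.respectTransparency false
universe u

open CategoryTheory CategoryTheory.Limits AlgebraicGeometry Opposite TopologicalSpace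
open Groth.Agent.Fdesc.LocGen Groth.Agent.Picfga.P1Def

namespace K704.Muk

section gen
variable {Y : Scheme.{u}} {M : Y.Modules}

theorem isGen_smul_of_isUnit {U : Y.Opens} {e : Γ(M, U)} (he : IsGen e) {c : Γ(Y, U)} (hc : IsUnit c) :
    IsGen (c • e) := by
  intro V h
  have hu : IsUnit (ores h c) := hc.map (ores h)
  have h1 : (fun a : Γ(Y, V) => a • res M h (c • e)) =
      (fun a : Γ(Y, V) => a • res M h e) ∘ (fun a => a * ores h c) := by
    funext a
    simp only [Function.comp_apply, res_smul, smul_smul]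
  rw [h1]
  refine (he V h).comp ?_
  obtain ⟨v, hv⟩ := hu
  rw [← hv]
  exact ⟨fun a b hab => by simpa using hab, fun a => ⟨a * (v⁻¹ : Γ(Y, V)ˣ), by simp [mul_assoc]⟩⟩

theorem isUnit_of_isGen_smul {U : Y.Opens} {e e' : Γ(M, U)} (he : IsGen e) (he' : IsGen e') {c : Γ(Y, U)}
    (h : e' = c • e) : IsUnit c := by
  obtain ⟨d, hd⟩ := he'.exists_eq e
  refine IsUnit.of_mul_eq_one d (he.ext ?_)
  rw [mul_comm, ← smul_smul, ← h, ← hd, one_smul]

end gen

section Fam
variable {k : Type u} [Field k] {X : Scheme.{u}} {f : X ⟶ Spec (CommRingCat.of k)}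

/-! ### NODE H1 : coordinates of points -/

theorem Coord.comp {M : Over (Spec (CommRingCat.of k))} {N : M.left.Modules} {ι : Type*} {x : ι → Γ(N, ⊤)}
    {T T' : Over (Spec (CommRingCat.of k))} {a : T ⟶ M} {t : ι → Γ(T.left, ⊤)} (h : Coord x a t) (g : T' ⟶ T) :
    Coord x (g ≫ a) (fun i => g.left.appTop (t i)) := by
  obtain ⟨e, he, hx⟩ := h
  let φ := (Scheme.Modules.pullbackComp g.left a.left).app N
  refine ⟨φ.hom.app ⊤ (pullTop g.left e), (isGen_app_iff φ.hom _).mpr (IsGen.pullTop g.left he), fun i => ?_⟩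
  have h1 : pullTop (g ≫ a).left (x i) = φ.hom.app ⊤ (pullTop g.left (pullTop a.left (x i))) :=
    (pullSec_comp' g.left a.left (U := ⊤) (x i)).symm
  rw [h1, hx i]
  have h2 : pullTop g.left (t i • e) = (g.left.appTop (t i) : Γ(T'.left, ⊤)) • pullTop g.left e :=
    pullSec_smul g.left (t i) e
  rw [h2]
  exact Scheme.Modules.Hom.app_smul φ.hom _ _

theorem Coord.smul {M : Over (Spec (CommRingCat.of k))} {N : M.left.Modules} {ι : Type*} {x : ι → Γ(N, ⊤)}
    {T : Over (Spec (CommRingCat.of k))} {a : T ⟶ M} {t : ι → Γ(T.left, ⊤)} (h : Coord x a t) {c : Γ(T.left, ⊤)}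
    (hc : IsUnit c) : Coord x a (c • t) := by
  obtain ⟨e, he, hx⟩ := h
  obtain ⟨v, rfl⟩ := hc
  refine ⟨((v⁻¹ : Γ(T.left, ⊤)ˣ) : Γ(T.left, ⊤)) • e, isGen_smul_of_isUnit he (Units.isUnit _), fun i => ?_⟩
  rw [hx i, smul_smul, Pi.smul_apply, smul_eq_mul, mul_right_comm, Units.mul_inv, one_mul]

theorem Coord.exists_smul {M : Over (Spec (CommRingCat.of k))} {N : M.left.Modules} {ι : Type*} {x : ι → Γ(N, ⊤)}
    {T : Over (Spec (CommRingCat.of k))} {a : T ⟶ M} {t t' : ι → Γ(T.left, ⊤)} (h : Coord x a t)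
    (h' : Coord x a t') : ∃ c : Γ(T.left, ⊤), IsUnit c ∧ t' = c • t := by
  obtain ⟨e, he, hx⟩ := h
  obtain ⟨e', he', hx'⟩ := h'
  obtain ⟨c, hc⟩ := he'.exists_eq e
  refine ⟨c, isUnit_of_isGen_smul he' he hc, funext fun i => he'.ext ?_⟩
  rw [← hx' i, hx i, hc, Pi.smul_apply, smul_eq_mul, smul_smul, mul_comm]

/-! ### NODE H2 : base change of the sections `B.sec`, functions on `X_T`, points of geometric fibres -/

/-- `g^*` as a map of `k`-algebras -/
theorem algebraMap_appTop {T T' : Over (Spec (CommRingCat.of k))} (g : T' ⟶ T) (c : k) :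
    g.left.appTop (algebraMap k Γ(T.left, ⊤) c) = algebraMap k Γ(T'.left, ⊤) c := by
  change g.left.appTop (strΓ T c) = strΓ T' c
  have h : T.hom.appTop ≫ g.left.appTop = T'.hom.appTop := by
    rw [← Scheme.Hom.comp_appTop, Over.w]
  unfold strΓ
  rw [← h]
  simp

theorem fn_appTop {T T' : Over (Spec (CommRingCat.of k))} (g : T' ⟶ T) (c : Γ(T.left, ⊤)) :
    (PicF.XTmap f g).appTop (fn f T c) = fn f T' (g.left.appTop c) := by
  have h := congr(($(Groth.Agent.Picfga.HilbPull.XTmap_snd f g)).appTop)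
  rw [Scheme.Hom.comp_appTop, Scheme.Hom.comp_appTop] at h
  exact congr($h c)

theorem pbTop_sum {T T' : Over (Spec (CommRingCat.of k))} (g : T' ⟶ T) (M : (PicF.XT f T).Modules) {κ : Type*}
    [Fintype κ] (c : κ → Γ(T.left, ⊤)) (m : κ → Γ(M, ⊤)) :
    pbTop f g M (∑ i, fn f T (c i) • m i) = ∑ i, fn f T' (g.left.appTop (c i)) • pbTop f g M (m i) := by
  have h1 : ∀ (s : Finset κ), pbTop f g M (∑ i ∈ s, fn f T (c i) • m i) =
      ∑ i ∈ s, fn f T' (g.left.appTop (c i)) • pbTop f g M (m i) := by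
    classical
    intro s
    induction s using Finset.induction_on with
    | empty =>
      simp only [Finset.sum_empty]
      have h := pullSec_smul (PicF.XTmap f g) (U := ⊤) (0 : Γ(PicF.XT f T, ⊤)) (0 : Γ(M, ⊤))
      rw [zero_smul, map_zero, zero_smul] at h
      exact h
    | insert a s ha ih =>
      rw [Finset.sum_insert ha, Finset.sum_insert ha, ← ih, ← fn_appTop]
      have h := pullSec_add (PicF.XTmap f g) (U := ⊤) (fn f T (c a) • m a) (∑ i ∈ s, fn f T (c i) • m i)
      rw [pullSec_smul] at h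
      exact h
  exact h1 Finset.univ

theorem BD.exists_iso_sec {L : X.Modules} (B : BD f L) {T T' : Over (Spec (CommRingCat.of k))} (g : T' ⟶ T) :
    ∃ φ : pb f g (LT f L T) ≅ LT f L T', ∀ t : Fin B.d → Γ(T.left, ⊤),
      φ.hom.app ⊤ (pbTop f g (LT f L T) (∑ l, fn f T (t l) • B.ωT T l)) =
        ∑ l, fn f T' (g.left.appTop (t l)) • B.ωT T' l := by
  obtain ⟨ψ, hψ⟩ := Groth.Agent.Picfga.PicGood.exists_iso_of_eq
    (Groth.Agent.Picfga.HilbPull.XTmap_fst f g) L
  let φ : pb f g (LT f L T) ≅ LT f L T' :=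
    (Scheme.Modules.pullbackComp (PicF.XTmap f g) (pullback.fst f T.hom)).app L ≪≫ ψ
  refine ⟨φ, fun t => ?_⟩
  rw [pbTop_sum, map_sum]
  refine Finset.sum_congr rfl fun l _ => ?_
  rw [Scheme.Modules.Hom.app_smul]
  congr 1
  have h1 := pullSec_comp' (PicF.XTmap f g) (pullback.fst f T.hom) (U := ⊤) (B.ω l)
  exact (congrArg (ψ.hom.app ⊤) h1).trans (hψ (B.ω l))

theorem fn_bijective [IsAlgClosed k] [IsIntegral X] [IsProper f] (T : Over (Spec (CommRingCat.of k)))
    [IsAffine T.left] : Function.Bijective (fn f T) := by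
  have hP : IsProper (Over.mk f).hom := inferInstanceAs (IsProper f)
  have hR : IsReduced (Over.mk f).left := inferInstanceAs (IsReduced X)
  have hC : ConnectedSpace (Over.mk f).left := inferInstanceAs (ConnectedSpace X)
  have : IsIso f.appTop := K528.RedClosed.isIso_appTop (Over.mk f)
  have H : IsPullback (pullback.fst f T.hom) (pullback.snd f T.hom) f T.hom := IsPullback.of_hasPullback _ _
  have hflat : Flat T.hom := inferInstance
  have : CompactSpace X := QuasiCompact.compactSpace_of_compactSpace f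
  have : X.IsSeparated := ⟨by rw [← terminal.comp_from f]; infer_instance⟩
  have h := Groth.Agent.Books.AntiAffine.isPushout_appTop_of_flat H
  have h1 : IsIso (pullback.snd f T.hom).appTop := h.isIso_inr_of_isIso
  exact (ConcreteCategory.isIso_iff_bijective _).mp h1

/-- every point of `X_T` is in the image of a geometric fibre -/
theorem exists_geometric_point (T : Over (Spec (CommRingCat.of k))) (y : PicF.XT f T) :
    ∃ (Ω : Type u) (_ : Field Ω) (_ : IsAlgClosed Ω) (t : Spec (CommRingCat.of Ω) ⟶ T.left)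
      (y' : PicF.XT f (Over.mk (t ≫ T.hom))),
      PicF.XTmap f (Over.homMk t rfl : Over.mk (t ≫ T.hom) ⟶ T) y' = y := by
  let s : T.left := PicF.XTproj f T y
  let K := T.left.residueField s
  let Ω : Type u := AlgebraicClosure K
  let t : Spec (CommRingCat.of Ω) ⟶ T.left :=
    Spec.map (CommRingCat.ofHom (algebraMap K Ω)) ≫ T.left.fromSpecResidueField s
  let g : Over.mk (t ≫ T.hom) ⟶ T := Over.homMk t rfl
  have H := Groth.Agent.Picfga.HilbPull.isPullback_XTmap f g
  let p : Spec (CommRingCat.of Ω) := IsLocalRing.closedPoint Ω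
  have ht : t p = s := by
    have h1 : t p = T.left.fromSpecResidueField s (Spec.map (CommRingCat.ofHom (algebraMap K Ω)) p) :=
      Scheme.Hom.comp_apply _ _ _
    rw [h1]
    have h2 := Scheme.range_fromSpecResidueField (X := T.left) s
    have h3 := Set.mem_range_self (f := T.left.fromSpecResidueField s)
      (Spec.map (CommRingCat.ofHom (algebraMap K Ω)) p)
    rw [h2] at h3
    exact h3
  obtain ⟨z, hz, -⟩ := Scheme.Pullback.exists_preimage_pullback (f := PicF.XTproj f T) (g := g.left) y p ht.symm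
  have hy' : PicF.XTmap f g (H.isoPullback.inv z) = y := by
    rw [← Scheme.Hom.comp_apply, IsPullback.isoPullback_inv_fst, hz]
  exact ⟨Ω, inferInstance, inferInstance, t, H.isoPullback.inv z, hy'⟩

end Fam

end K704.Muk
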